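import Mathlib

set_option linter.style.haveILetI false
set_option linter.unusedVariables false
set_option linter.unusedSectionVars false
set_option autoImplicit false
set_option backward.isDefEq.respectTransparency.types false
set_option synthInstance.maxHeartbeats 400000
set_option maxHeartbeats 1600000

namespace Groth.Agent.Helper7.PerfBC

open TensorProduct IsLocalRing

universe u

/-! helper7: lengths of tensor products with purely inseparable extensions are powers of the characteristic (finite-level stabilization) -/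

section G

variable (K L F : Type u) [Field K] [Field L] [CommRing F] [Nontrivial F] [Algebra K L]
  [Algebra K F] (p : ℕ) [Fact p.Prime] [CharP K p]

instance nontrivial_tensor : Nontrivial (F ⊗[K] L) := inferInstance

instance charP_tensor : CharP (F ⊗[K] L) p :=
  charP_of_injective_algebraMap (algebraMap K (F ⊗[K] L)).injective p

variable {K L F}

theorem pow_mem_right (hF : ∀ a : F, ∃ n : ℕ, a ^ p ^ n ∈ (algebraMap K F).range)
    (b : F ⊗[K] L) : ∃ (n : ℕ) (l : L), b ^ p ^ n = (1 : F) ⊗ₜ[K] l := by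
  induction b using TensorProduct.induction_on with
  | zero => exact ⟨0, 0, by simp⟩
  | tmul a l =>
    obtain ⟨n, c, hc⟩ := hF a
    refine ⟨n, c • l ^ p ^ n, ?_⟩
    rw [Algebra.TensorProduct.tmul_pow, ← hc, Algebra.algebraMap_eq_smul_one,
      TensorProduct.smul_tmul]
  | add b₁ b₂ h₁ h₂ =>
    obtain ⟨n₁, l₁, e₁⟩ := h₁
    obtain ⟨n₂, l₂, e₂⟩ := h₂
    refine ⟨n₁ + n₂, l₁ ^ p ^ n₂ + l₂ ^ p ^ n₁, ?_⟩
    rw [add_pow_char_pow, pow_add, pow_mul, e₁, Algebra.TensorProduct.tmul_pow, one_pow,
      mul_comm (p ^ n₁) (p ^ n₂), pow_mul, e₂, Algebra.TensorProduct.tmul_pow, one_pow,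
      TensorProduct.tmul_add]

theorem isUnit_or_isNilpotent (hF : ∀ a : F, ∃ n : ℕ, a ^ p ^ n ∈ (algebraMap K F).range)
    (b : F ⊗[K] L) : IsUnit b ∨ IsNilpotent b := by
  obtain ⟨n, l, e⟩ := pow_mem_right p hF b
  by_cases hl : l = 0
  · right
    refine ⟨p ^ n, ?_⟩
    rw [e, hl, TensorProduct.tmul_zero]
  · left
    have hu : IsUnit ((1 : F) ⊗ₜ[K] l) := by
      refine IsUnit.of_mul_eq_one ((1 : F) ⊗ₜ[K] l⁻¹) ?_
      rw [Algebra.TensorProduct.tmul_mul_tmul, mul_one, mul_inv_cancel₀ hl]
      rfl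
    rw [← e] at hu
    exact (isUnit_pow_iff (pow_ne_zero n (Fact.out : p.Prime).ne_zero)).mp hu

theorem isLocalRing_tensor (hF : ∀ a : F, ∃ n : ℕ, a ^ p ^ n ∈ (algebraMap K F).range) :
    IsLocalRing (F ⊗[K] L) := by
  apply IsLocalRing.of_isUnit_or_isUnit_one_sub_self
  intro b
  rcases isUnit_or_isNilpotent p hF b with h | h
  · exact Or.inl h
  · exact Or.inr h.isUnit_one_sub

theorem not_isUnit_iff_isNilpotent (hF : ∀ a : F, ∃ n : ℕ, a ^ p ^ n ∈ (algebraMap K F).range)
    (b : F ⊗[K] L) : ¬ IsUnit b ↔ IsNilpotent b := by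
  constructor
  · intro h
    rcases isUnit_or_isNilpotent p hF b with h' | h'
    · exact (h h').elim
    · exact h'
  · rintro ⟨n, hn⟩ hu
    have := hu.pow n
    rw [hn] at this
    exact not_isUnit_zero this

end G

section L1

/-- lengths along a flat local homomorphism whose closed fibre is a field -/
theorem length_eq_of_flat_of_map_max {A B : Type u} [CommRing A] [CommRing B] [IsLocalRing A]
    [IsLocalRing B] [Algebra A B] [IsLocalHom (algebraMap A B)] [Module.Flat A B]
    (h : (maximalIdeal A).map (algebraMap A B) = maximalIdeal B) :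
    Module.length B B = Module.length A A := by
  have h1 := IsLocalRing.length_baseChange A B A
  rw [h] at h1
  have h2 : Module.length B (B ⧸ maximalIdeal B) = 1 := by
    rw [Module.length_eq_one_iff]
    exact isSimpleModule_iff_isCoatom.mpr (Ideal.isMaximal_def.mp inferInstance)
  rw [h2, mul_one] at h1
  rw [← h1]
  exact (TensorProduct.AlgebraTensorModule.rid A B B).length_eq.symm

/-- ring homomorphism version -/
theorem length_eq_of_flat_ringHom {A B : Type u} [CommRing A] [CommRing B] [IsLocalRing A]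
    [IsLocalRing B] (f : A →+* B) (hf : f.Flat) (hloc : IsLocalHom f)
    (h : (maximalIdeal A).map f = maximalIdeal B) :
    Module.length B B = Module.length A A := by
  algebraize [f]
  haveI : IsLocalHom (algebraMap A B) := hloc
  haveI : Module.Flat A B := hf
  exact length_eq_of_flat_of_map_max h

end L1

section Finite

variable (K L E : Type u) [Field K] [Field L] [Field E] [Algebra K L] [Algebra K E]
  [Module.Finite K E] [IsPurelyInseparable K E] (p : ℕ) [Fact p.Prime] [CharP K p]

attribute [local instance] Algebra.TensorProduct.rightAlgebra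

theorem length_finite_level :
    ∃ j : ℕ, Module.length (E ⊗[K] L) (E ⊗[K] L) = ((p ^ j : ℕ) : ℕ∞) := by
  have hF : ∀ a : E, ∃ n : ℕ, a ^ p ^ n ∈ (algebraMap K E).range :=
    fun a => IsPurelyInseparable.pow_mem K p a
  haveI hloc : IsLocalRing (E ⊗[K] L) := isLocalRing_tensor p hF
  haveI hlh : IsLocalHom (algebraMap L (E ⊗[K] L)) := by
    constructor
    intro l hl
    by_contra hn
    have hl0 : l = 0 := by
      by_contra hne
      exact hn (IsUnit.mk0 l hne)
    rw [hl0, map_zero] at hl
    exact not_isUnit_zero hl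
  obtain ⟨m, hm⟩ := IsPurelyInseparable.finrank_eq_pow (F := K) E p
  have h1 := IsLocalRing.length_restrictScalars L (E ⊗[K] L) (E ⊗[K] L)
  have h2 : Module.length L (E ⊗[K] L) = ((p ^ m : ℕ) : ℕ∞) := by
    let e : L ⊗[K] E ≃ₐ[L] E ⊗[K] L := Algebra.TensorProduct.commRight K L E
    rw [← e.toLinearEquiv.length_eq, Module.length_eq_finrank, Module.finrank_baseChange, hm]
  rw [h2] at h1
  generalize Module.length (E ⊗[K] L) (E ⊗[K] L) = ℓ at h1 ⊢
  generalize Module.length (ResidueField L) (ResidueField (E ⊗[K] L)) = d at h1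
  have hp0 : (p ^ m : ℕ) ≠ 0 := pow_ne_zero m (Fact.out : p.Prime).ne_zero
  induction ℓ using ENat.recTopCoe with
  | top =>
    exfalso
    by_cases hd : d = 0
    · rw [hd, mul_zero] at h1
      exact hp0 (by exact_mod_cast h1)
    · rw [ENat.top_mul hd] at h1
      exact ENat.natCast_ne_top _ h1
  | coe a =>
    induction d using ENat.recTopCoe with
    | top =>
      exfalso
      by_cases ha : a = 0
      · rw [ha, Nat.cast_zero, zero_mul] at h1
        exact hp0 (by exact_mod_cast h1)
      · rw [ENat.mul_top (by exact_mod_cast ha)] at h1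
        exact ENat.natCast_ne_top _ h1
    | coe b =>
      have h3 : p ^ m = a * b := by exact_mod_cast h1
      have h4 : a ∣ p ^ m := ⟨b, h3⟩
      obtain ⟨j, -, hj⟩ := (Nat.dvd_prime_pow (Fact.out : p.Prime)).mp h4
      exact ⟨j, by rw [hj]⟩

end Finite

section Level

variable (K L E A : Type u) [Field K] [Field L] [Field E] [Field A] [Algebra K L] [Algebra K E]
  [Algebra K A] [Algebra E A] [IsScalarTower K E A] (p : ℕ) [Fact p.Prime] [CharP K p]

/-- the comparison map from an intermediate level -/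
noncomputable abbrev φL : (E ⊗[K] L) →ₐ[K] (A ⊗[K] L) :=
  Algebra.TensorProduct.map (IsScalarTower.toAlgHom K E A) (AlgHom.id K L)

theorem flat_level : (φL K L E A).toRingHom.Flat := by
  letI algER : Algebra (E ⊗[K] L) (A ⊗[K] L) := (φL K L E A).toRingHom.toAlgebra
  have halg : ∀ c : E ⊗[K] L, algebraMap (E ⊗[K] L) (A ⊗[K] L) c = φL K L E A c := by
    intro c
    rfl
  haveI tower : IsScalarTower E (E ⊗[K] L) (A ⊗[K] L) :=
    IsScalarTower.of_algebraMap_eq (fun c => by
      rw [halg (algebraMap E (E ⊗[K] L) c), Algebra.TensorProduct.algebraMap_apply,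
        Algebra.TensorProduct.algebraMap_apply, Algebra.TensorProduct.map_tmul, map_one]
      rfl)
  have hpush : Algebra.IsPushout E A (E ⊗[K] L) (A ⊗[K] L) :=
    Algebra.IsPushout.tensorProduct_tensorProduct K L E A (by
      ext l
      show φL K L E A ((1 : E) ⊗ₜ[K] l) = (1 : A) ⊗ₜ[K] l
      rw [Algebra.TensorProduct.map_tmul, map_one]
      rfl)
  exact Module.Flat.isBaseChange (R := E) (M := A) (S := E ⊗[K] L) (A ⊗[K] L) hpush.symm.out

theorem level_length [Module.Finite K E] [IsPurelyInseparable K E] [IsPurelyInseparable K A]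
    [IsLocalRing (A ⊗[K] L)] [IsLocalRing (E ⊗[K] L)]
    (hgen : maximalIdeal (A ⊗[K] L) ≤
      (maximalIdeal (E ⊗[K] L)).map (φL K L E A).toRingHom) :
    ∃ j : ℕ, Module.length (A ⊗[K] L) (A ⊗[K] L) = ((p ^ j : ℕ) : ℕ∞) := by
  have hFA : ∀ a : A, ∃ n : ℕ, a ^ p ^ n ∈ (algebraMap K A).range :=
    fun a => IsPurelyInseparable.pow_mem K p a
  have hFE : ∀ a : E, ∃ n : ℕ, a ^ p ^ n ∈ (algebraMap K E).range :=
    fun a => IsPurelyInseparable.pow_mem K p a
  have hlh' : IsLocalHom (φL K L E A).toRingHom := by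
    constructor
    intro c hc
    by_contra hn
    have hnil := (not_isUnit_iff_isNilpotent p hFE c).mp hn
    have hnil' : IsNilpotent ((φL K L E A).toRingHom c) := hnil.map _
    exact (not_isUnit_iff_isNilpotent p hFA _).mpr hnil' hc
  have hmax' : (maximalIdeal (E ⊗[K] L)).map (φL K L E A).toRingHom =
      maximalIdeal (A ⊗[K] L) := by
    apply le_antisymm
    · rw [Ideal.map_le_iff_le_comap]
      intro c hc
      rw [Ideal.mem_comap, mem_maximalIdeal, mem_nonunits_iff]
      intro hu
      exact (mem_maximalIdeal c).mp hc (hlh'.map_nonunit c hu)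
    · exact hgen
  rw [length_eq_of_flat_ringHom _ (flat_level K L E A) hlh' hmax']
  exact length_finite_level K L E p

end Level

section Main

variable (K L A : Type u) [Field K] [Field L] [Field A] [Algebra K L] [Algebra K A]
  (p : ℕ) [Fact p.Prime] [CharP K p]

theorem range_mono {E E' : IntermediateField K A} (h : E ≤ E') :
    (φL K L ↥E A).range ≤ (φL K L ↥E' A).range := by
  rintro _ ⟨y, rfl⟩
  refine ⟨Algebra.TensorProduct.map (IntermediateField.inclusion h) (AlgHom.id K L) y, ?_⟩
  induction y using TensorProduct.induction_on with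
  | zero => simp
  | tmul c l =>
    show φL K L ↥E' A (Algebra.TensorProduct.map (IntermediateField.inclusion h)
      (AlgHom.id K L) (c ⊗ₜ[K] l)) = φL K L ↥E A (c ⊗ₜ[K] l)
    rw [Algebra.TensorProduct.map_tmul, Algebra.TensorProduct.map_tmul,
      Algebra.TensorProduct.map_tmul]
    rfl
  | add y₁ y₂ h₁ h₂ =>
    simp only [map_add] at h₁ h₂ ⊢
    rw [h₁, h₂]

theorem exists_E [IsPurelyInseparable K A] (b : A ⊗[K] L) :
    ∃ E : IntermediateField K A, FiniteDimensional K E ∧ b ∈ (φL K L ↥E A).range := by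
  induction b using TensorProduct.induction_on with
  | zero => exact ⟨⊥, inferInstance, zero_mem _⟩
  | tmul a l =>
    refine ⟨IntermediateField.adjoin K {a},
      IntermediateField.adjoin.finiteDimensional (IsPurelyInseparable.isIntegral' K a), ?_⟩
    refine ⟨(⟨a, IntermediateField.mem_adjoin_simple_self K a⟩ :
      ↥(IntermediateField.adjoin K {a})) ⊗ₜ l, ?_⟩
    show φL K L ↥(IntermediateField.adjoin K {a}) A
      ((⟨a, IntermediateField.mem_adjoin_simple_self K a⟩ :
        ↥(IntermediateField.adjoin K {a})) ⊗ₜ[K] l) = a ⊗ₜ[K] l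
    rw [Algebra.TensorProduct.map_tmul]
    rfl
  | add b₁ b₂ h₁ h₂ =>
    obtain ⟨E₁, f₁, m₁⟩ := h₁
    obtain ⟨E₂, f₂, m₂⟩ := h₂
    refine ⟨E₁ ⊔ E₂, IntermediateField.finiteDimensional_sup E₁ E₂, ?_⟩
    exact add_mem (range_mono K L A le_sup_left m₁) (range_mono K L A le_sup_right m₂)

theorem exists_E_finset [IsPurelyInseparable K A] (S : Finset (A ⊗[K] L)) :
    ∃ E : IntermediateField K A, FiniteDimensional K E ∧ ∀ b ∈ S, b ∈ (φL K L ↥E A).range := by
  classical
  induction S using Finset.induction_on with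
  | empty => exact ⟨⊥, inferInstance, fun b hb => absurd hb (Finset.notMem_empty b)⟩
  | insert b S hb ih =>
    obtain ⟨E₁, f₁, m₁⟩ := ih
    obtain ⟨E₂, f₂, m₂⟩ := exists_E K L A b
    refine ⟨E₁ ⊔ E₂, IntermediateField.finiteDimensional_sup E₁ E₂, ?_⟩
    intro c hc
    rw [Finset.mem_insert] at hc
    rcases hc with rfl | hc
    · exact range_mono K L A le_sup_right m₂
    · exact range_mono K L A le_sup_left (m₁ c hc)

theorem length_tensor_pow [IsPurelyInseparable K A]
    (hfin : Module.length (A ⊗[K] L) (A ⊗[K] L) ≠ ⊤) :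
    ∃ j : ℕ, Module.length (A ⊗[K] L) (A ⊗[K] L) = ((p ^ j : ℕ) : ℕ∞) := by
  have hFA : ∀ a : A, ∃ n : ℕ, a ^ p ^ n ∈ (algebraMap K A).range :=
    fun a => IsPurelyInseparable.pow_mem K p a
  haveI hlocR : IsLocalRing (A ⊗[K] L) := isLocalRing_tensor p hFA
  have hfl : IsFiniteLength (A ⊗[K] L) (A ⊗[K] L) := Module.length_ne_top_iff.mp hfin
  haveI hnoeth : IsNoetherianRing (A ⊗[K] L) :=
    (isFiniteLength_iff_isNoetherian_isArtinian.mp hfl).1
  obtain ⟨S, hS⟩ := (IsNoetherian.noetherian (maximalIdeal (A ⊗[K] L)))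
  obtain ⟨E, hEfin, hE⟩ := exists_E_finset K L A S
  haveI : FiniteDimensional K E := hEfin
  haveI : IsPurelyInseparable K E := IsPurelyInseparable.tower_bot K E A
  have hFE : ∀ a : E, ∃ n : ℕ, a ^ p ^ n ∈ (algebraMap K E).range :=
    fun a => IsPurelyInseparable.pow_mem K p a
  haveI hlocE : IsLocalRing (↥E ⊗[K] L) := isLocalRing_tensor p hFE
  refine level_length K L ↥E A p ?_
  rw [← hS]
  apply Submodule.span_le.mpr
  intro b hb
  obtain ⟨c, rfl⟩ := hE b hb
  apply Ideal.mem_map_of_mem
  rw [mem_maximalIdeal, mem_nonunits_iff]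
  intro hc
  have hb' : (φL K L ↥E A c) ∈ maximalIdeal (A ⊗[K] L) := by
    rw [← hS]
    exact Submodule.subset_span hb
  exact (mem_maximalIdeal _).mp hb' (hc.map (φL K L ↥E A).toRingHom)

end Main

end Groth.Agent.Helper7.PerfBC
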