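import Mathlib
import Groth.Prelude.Def_Cyc
import Groth.Agent.Lib.Helper7.FibProd.Key
import Groth.Agent.Lib.Helper7.PerfBC.PIAlg

set_option linter.style.haveILetI false
set_option linter.unusedVariables false
set_option linter.unusedSectionVars false
set_option autoImplicit false
set_option backward.isDefEq.respectTransparency.types false
set_option synthInstance.maxHeartbeats 400000
set_option maxHeartbeats 1600000

namespace Groth.Agent.Helper7.PerfBC

open CategoryTheory CategoryTheory.Limits AlgebraicGeometry TopologicalSpace Opposite IsLocalRing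
open TensorProduct
open Groth.Agent.Helper7.FibProd

universe u

/-! helper7: the fibre multiplicity of a base change along a purely inseparable field-like fibre is a power of the characteristic -/

section Wrap

theorem length_eq_of_ringEquiv {R S : Type u} [CommRing R] [CommRing S] (e : R ≃+* S) :
    Module.length R R = Module.length S S := by
  algebraize [e.toRingHom]
  have h1 : Module.length R S = Module.length S S :=
    Module.length_eq_of_surjective e.surjective
  rw [← h1]
  let l : R ≃ₗ[R] S :=
    { e.toAddEquiv with
      map_smul' := fun r x => by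
        show e (r * x) = algebraMap R S r * e x
        rw [map_mul]
        rfl }
  exact l.length_eq

variable (K L A : Type u) [Field K] [Field L] [CommRing A] [Algebra K L] [Algebra K A]
  (p : ℕ) [Fact p.Prime] [CharP K p]

theorem isUnit_or_isNilpotent_left [Nontrivial A]
    (hA : ∀ a : A, ∃ n : ℕ, a ^ p ^ n ∈ (algebraMap K A).range) (b : L ⊗[K] A) :
    IsUnit b ∨ IsNilpotent b := by
  let e : L ⊗[K] A ≃ₐ[K] A ⊗[K] L := Algebra.TensorProduct.comm K L A
  have hb : e.symm (e b) = b := e.symm_apply_apply b
  rcases isUnit_or_isNilpotent p hA (e b) with h | h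
  · left
    have := h.map e.symm
    rwa [hb] at this
  · right
    have := h.map e.symm
    rwa [hb] at this

theorem length_tensor_pow_left (hAf : IsField A)
    (hA : ∀ a : A, ∃ n : ℕ, a ^ p ^ n ∈ (algebraMap K A).range)
    (hfin : Module.length (L ⊗[K] A) (L ⊗[K] A) ≠ ⊤) :
    ∃ j : ℕ, Module.length (L ⊗[K] A) (L ⊗[K] A) = ((p ^ j : ℕ) : ℕ∞) := by
  letI := hAf.toField
  haveI : IsPurelyInseparable K A := (isPurelyInseparable_iff_pow_mem K p).mpr hA
  let e : L ⊗[K] A ≃ₐ[K] A ⊗[K] L := Algebra.TensorProduct.comm K L A
  have h1 := length_eq_of_ringEquiv e.toRingEquiv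
  rw [h1] at hfin ⊢
  exact length_tensor_pow K L A p hfin

end Wrap

section Pt

variable {X Y Y' : Scheme.{u}} (f : X ⟶ Y) (g : Y' ⟶ Y)

theorem isArtinianRing_of_isField {A : Type u} [CommRing A] (h : IsField A) :
    IsArtinianRing A := by
  letI := h.toField
  exact inferInstance

/-- the fibre multiplicity of the first projection at a point over a pair `(x, y')` such that
the local ring of the fibre of `g` at `y'` is a purely inseparable field extension of the residue
field of the base point is a power of the characteristic -/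
theorem fibLen_pow (x : X) (y' : Y') (h : f x = g y') (x' : ↥(pullback f g))
    (hx : pullback.fst f g x' = x) (hy : pullback.snd f g x' = y')
    (p : ℕ) [Fact p.Prime] [CharP (Y.residueField (f x)) p]
    (hAf : IsField (FibA g y'))
    (hA : ∀ a : FibA g y', ∃ n : ℕ, a ^ p ^ n ∈ (kToA f g x y' h).range)
    (hfin : Module.length ((pullback f g).presheaf.stalk x')
      ((pullback f g).presheaf.stalk x' ⧸ Ideal.map ((pullback.fst f g).stalkMap x').hom
        (maximalIdeal (X.presheaf.stalk (pullback.fst f g x')))) ≠ ⊤) :
    ∃ j : ℕ, Module.length ((pullback f g).presheaf.stalk x')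
      ((pullback f g).presheaf.stalk x' ⧸ Ideal.map ((pullback.fst f g).stalkMap x').hom
        (maximalIdeal (X.presheaf.stalk (pullback.fst f g x')))) = ((p ^ j : ℕ) : ℕ∞) := by
  classical
  letI algKL : Algebra (Y.residueField (f x)) (X.residueField x) :=
    (f.residueFieldMap x).hom.toAlgebra
  letI algKA : Algebra (Y.residueField (f x)) (FibA g y') := (kToA f g x y' h).toAlgebra
  have hKL : algebraMap (Y.residueField (f x)) (X.residueField x) =
      (f.residueFieldMap x).hom := rfl
  have hKA : algebraMap (Y.residueField (f x)) (FibA g y') = kToA f g x y' h := rfl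
  haveI hart : IsArtinianRing (FibA g y') := isArtinianRing_of_isField hAf
  obtain ⟨Ψ, hpre, hΨ₁, hΨ₂, hrange⟩ := exists_Ψ f g x y' h hKL hKA
  rw [range_aMap] at hrange
  have hmem : x' ∈ Set.range Ψ := by
    rw [hrange]
    exact ⟨hx, hy⟩
  obtain ⟨Q, rfl⟩ := hmem
  haveI := hpre
  have hlen := length_Ψ f g x y' h hKL hKA Ψ hΨ₁ hΨ₂ Q
  rw [hlen] at hfin ⊢
  have hA' : ∀ a : FibA g y', ∃ n : ℕ,
      a ^ p ^ n ∈ (algebraMap (Y.residueField (f x)) (FibA g y')).range := hA
  have hUN := isUnit_or_isNilpotent_left (Y.residueField (f x)) (X.residueField x)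
    (FibA g y') p hA'
  letI algSt : Algebra (FibB f g x y')
      ((Spec (CommRingCat.of (FibB f g x y'))).presheaf.stalk Q) :=
    (toSt (CommRingCat.of (FibB f g x y')) Q).hom.toAlgebra
  haveI hloc : IsLocalization.AtPrime
      ((Spec (CommRingCat.of (FibB f g x y'))).presheaf.stalk Q)
      (Q : PrimeSpectrum (FibB f g x y')).asIdeal :=
    isLocalization_toSt (CommRingCat.of (FibB f g x y')) Q
  have hunits : (Q : PrimeSpectrum (FibB f g x y')).asIdeal.primeCompl ≤
      IsUnit.submonoid (FibB f g x y') := by
    intro b hb
    rcases hUN b with hu | hn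
    · exact hu
    · exfalso
      apply hb
      obtain ⟨n, hn⟩ := hn
      exact (Q : PrimeSpectrum (FibB f g x y')).isPrime.mem_of_pow_mem n
        (by rw [hn]; exact zero_mem _)
  let e := IsLocalization.atUnits (FibB f g x y')
    (Q : PrimeSpectrum (FibB f g x y')).asIdeal.primeCompl
    (S := ((Spec (CommRingCat.of (FibB f g x y'))).presheaf.stalk Q)) hunits
  have h2 := length_eq_of_ringEquiv e.toRingEquiv
  rw [← h2] at hfin ⊢
  exact length_tensor_pow_left (Y.residueField (f x)) (X.residueField x) (FibA g y') p hAf
    hA' hfin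

end Pt

end Groth.Agent.Helper7.PerfBC
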