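import Mathlib
import Groth.Prelude.Def_Cyc
import Groth.Agent.Lib.Helper7.FibProd.Key
import Groth.Agent.Lib.Helper7.PerfBC.Pt
import Groth.Agent.Lib.Helper7.ChowPI.Main
import Groth.Agent.Lib.Helper7.CycPull.Main
import Groth.Agent.Lib.Helper4.PropDim1

set_option linter.style.haveILetI false
set_option linter.unusedVariables false
set_option linter.unusedSectionVars false
set_option autoImplicit false
set_option backward.isDefEq.respectTransparency.types false
set_option synthInstance.maxHeartbeats 400000
set_option maxHeartbeats 1600000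

namespace Groth.Agent.Helper7.PerfBC

open CategoryTheory CategoryTheory.Limits AlgebraicGeometry TopologicalSpace Opposite IsLocalRing
open TensorProduct
open Groth.Agent.Helper7.FibProd Groth.Agent.Helper7.CycPull
open Groth.Agent.Lib.Helper4.FibDim1

universe u

/-! helper7: base change of cycles to the perfect closure has p-power torsion cokernel (S1919) -/

section ToSt

theorem toSt_stalkSpecializes (R : CommRingCat.{u}) {P P' : Spec R} (h : P' ⤳ P) :
    toSt R P ≫ (Spec R).presheaf.stalkSpecializes h = toSt R P' := by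
  unfold toSt
  rw [Category.assoc, TopCat.Presheaf.germ_stalkSpecializes]

theorem toSt_stalkMap {R S : CommRingCat.{u}} (φ : R ⟶ S) (Q : Spec S) :
    toSt R (Spec.map φ Q) ≫ (Spec.map φ).stalkMap Q = φ ≫ toSt S Q := by
  unfold toSt
  rw [Category.assoc, Scheme.Hom.germ_stalkMap, ← Category.assoc, ← Category.assoc,
    Scheme.ΓSpecIso_inv_naturality]
  rfl

end ToSt

section SpecField

variable (k k' : Type u) [Field k] [Field k'] (ι : k →+* k')

theorem toSt_surjective_field (y' : Spec (CommRingCat.of k')) :
    Function.Surjective (toSt (CommRingCat.of k') y').hom := by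
  letI alg : Algebra k' ((Spec (CommRingCat.of k')).presheaf.stalk y') :=
    (toSt (CommRingCat.of k') y').hom.toAlgebra
  haveI hloc : IsLocalization.AtPrime ((Spec (CommRingCat.of k')).presheaf.stalk y')
      (y' : PrimeSpectrum k').asIdeal := isLocalization_toSt (CommRingCat.of k') y'
  have hunits : (y' : PrimeSpectrum k').asIdeal.primeCompl ≤ IsUnit.submonoid k' := by
    intro b hb
    have hb0 : b ≠ 0 := by
      rintro rfl
      exact hb (zero_mem _)
    exact IsUnit.mk0 b hb0
  let e := IsLocalization.atUnits k' (y' : PrimeSpectrum k').asIdeal.primeCompl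
    (S := ((Spec (CommRingCat.of k')).presheaf.stalk y')) hunits
  intro s
  obtain ⟨a, ha⟩ := e.surjective s
  exact ⟨a, ha⟩

/-- the map from the field to the local ring of the fibre -/
noncomputable def σ (y' : Spec (CommRingCat.of k')) :
    k' →+* FibA (Spec.map (CommRingCat.ofHom ι)) y' :=
  (Ideal.Quotient.mk (fibI (Spec.map (CommRingCat.ofHom ι)) y')).comp
    (toSt (CommRingCat.of k') y').hom

theorem σ_surjective (y' : Spec (CommRingCat.of k')) : Function.Surjective (σ k k' ι y') :=
  Ideal.Quotient.mk_surjective.comp (toSt_surjective_field k' y')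

theorem isField_fibA_spec (y' : Spec (CommRingCat.of k')) :
    IsField (FibA (Spec.map (CommRingCat.ofHom ι)) y') := by
  have hinj : Function.Injective (σ k k' ι y') := RingHom.injective _
  let e : k' ≃+* FibA (Spec.map (CommRingCat.ofHom ι)) y' :=
    RingEquiv.ofBijective (σ k k' ι y') ⟨hinj, σ_surjective k k' ι y'⟩
  exact MulEquiv.isField (Field.toIsField k') e.symm.toMulEquiv

theorem kToA_τ {X : Scheme.{u}} (f : X ⟶ Spec (CommRingCat.of k)) (x : X)
    (y' : Spec (CommRingCat.of k')) (h : f x = Spec.map (CommRingCat.ofHom ι) y') (d : k) :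
    kToA f (Spec.map (CommRingCat.ofHom ι)) x y' h
      (((Spec (CommRingCat.of k)).residue (f x)).hom
        ((toSt (CommRingCat.of k) (f x)).hom d)) = σ k k' ι y' (ι d) := by
  rw [kToA_residue]
  have h1 : ((Spec (CommRingCat.of k)).presheaf.stalkSpecializes
      (specializes_of_eq h.symm)).hom ((toSt (CommRingCat.of k) (f x)).hom d) =
      (toSt (CommRingCat.of k) (Spec.map (CommRingCat.ofHom ι) y')).hom d := by
    have := toSt_stalkSpecializes (CommRingCat.of k) (specializes_of_eq h.symm)
    exact congrArg (fun m => m.hom d) this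
  have h2 : ((Spec.map (CommRingCat.ofHom ι)).stalkMap y').hom
      ((toSt (CommRingCat.of k) (Spec.map (CommRingCat.ofHom ι) y')).hom d) =
      (toSt (CommRingCat.of k') y').hom (ι d) := by
    have := toSt_stalkMap (CommRingCat.ofHom ι) y'
    exact congrArg (fun m => m.hom d) this
  rw [h1, h2]
  rfl

end SpecField

section PerPoint

variable (k k' : Type u) [Field k] [Field k'] (ι : k →+* k') (p : ℕ) [Fact p.Prime] [CharP k p]

theorem perPoint (hι : ∀ c : k', ∃ (n : ℕ) (d : k), ι d = c ^ p ^ n)
    {X : Scheme.{u}} (f : X ⟶ Spec (CommRingCat.of k)) [LocallyOfFiniteType f]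
    (hinj : Function.Injective (pullback.fst f (Spec.map (CommRingCat.ofHom ι))))
    (x' : ↥(pullback f (Spec.map (CommRingCat.ofHom ι)))) :
    ∃ j : ℕ, Module.length ((pullback f (Spec.map (CommRingCat.ofHom ι))).presheaf.stalk x')
      ((pullback f (Spec.map (CommRingCat.ofHom ι))).presheaf.stalk x' ⧸
        Ideal.map ((pullback.fst f (Spec.map (CommRingCat.ofHom ι))).stalkMap x').hom
          (maximalIdeal (X.presheaf.stalk
            (pullback.fst f (Spec.map (CommRingCat.ofHom ι)) x')))) = ((p ^ j : ℕ) : ℕ∞) := by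
  have hsq : f (pullback.fst f (Spec.map (CommRingCat.ofHom ι)) x') = (Spec.map (CommRingCat.ofHom ι)) (pullback.snd f (Spec.map (CommRingCat.ofHom ι)) x') := by
    rw [← Scheme.Hom.comp_apply, ← Scheme.Hom.comp_apply, pullback.condition]
  -- the characteristic of the residue field
  let τ : k →+* (Spec (CommRingCat.of k)).residueField (f (pullback.fst f (Spec.map (CommRingCat.ofHom ι)) x')) :=
    ((Spec (CommRingCat.of k)).residue (f (pullback.fst f (Spec.map (CommRingCat.ofHom ι)) x'))).hom.comp
      (toSt (CommRingCat.of k) (f (pullback.fst f (Spec.map (CommRingCat.ofHom ι)) x'))).hom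
  haveI hchar : CharP ((Spec (CommRingCat.of k)).residueField (f (pullback.fst f (Spec.map (CommRingCat.ofHom ι)) x'))) p :=
    charP_of_injective_ringHom τ.injective p
  -- finiteness of the length
  haveI : IsLocallyNoetherian (pullback f (Spec.map (CommRingCat.ofHom ι))) :=
    LocallyOfFiniteType.isLocallyNoetherian (pullback.snd f (Spec.map (CommRingCat.ofHom ι)))
  have hmax : ∀ z, pullback.fst f (Spec.map (CommRingCat.ofHom ι)) z = pullback.fst f (Spec.map (CommRingCat.ofHom ι)) x' → z ⤳ x' → z = x' :=
    fun z hz _ => hinj hz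
  haveI hart : IsArtinianRing (FibA (pullback.fst f (Spec.map (CommRingCat.ofHom ι))) x') :=
    isArtinianRing_fibA (pullback.fst f (Spec.map (CommRingCat.ofHom ι))) x' hmax
  have hfin : Module.length ((pullback f (Spec.map (CommRingCat.ofHom ι))).presheaf.stalk x')
      ((pullback f (Spec.map (CommRingCat.ofHom ι))).presheaf.stalk x' ⧸
        Ideal.map ((pullback.fst f (Spec.map (CommRingCat.ofHom ι))).stalkMap x').hom
          (maximalIdeal (X.presheaf.stalk (pullback.fst f (Spec.map (CommRingCat.ofHom ι)) x')))) ≠ ⊤ := by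
    have h1 : Module.length ((pullback f (Spec.map (CommRingCat.ofHom ι))).presheaf.stalk x') (FibA (pullback.fst f (Spec.map (CommRingCat.ofHom ι))) x') =
        Module.length (FibA (pullback.fst f (Spec.map (CommRingCat.ofHom ι))) x') (FibA (pullback.fst f (Spec.map (CommRingCat.ofHom ι))) x') :=
      Module.length_eq_of_surjective Ideal.Quotient.mk_surjective
    have h2 : Module.length (FibA (pullback.fst f (Spec.map (CommRingCat.ofHom ι))) x') (FibA (pullback.fst f (Spec.map (CommRingCat.ofHom ι))) x') ≠ ⊤ := by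
      rw [Module.length_ne_top_iff]
      exact (isArtinianRing_iff_isFiniteLength _).mp inferInstance
    rw [← h1] at h2
    exact h2
  refine fibLen_pow f (Spec.map (CommRingCat.ofHom ι)) (pullback.fst f (Spec.map (CommRingCat.ofHom ι)) x') (pullback.snd f (Spec.map (CommRingCat.ofHom ι)) x') hsq x' rfl rfl p
    (isField_fibA_spec k k' ι _) ?_ hfin
  intro a
  obtain ⟨c, rfl⟩ := σ_surjective k k' ι (pullback.snd f (Spec.map (CommRingCat.ofHom ι)) x') a
  obtain ⟨n, d, hd⟩ := hι c
  refine ⟨n, τ d, ?_⟩
  rw [← map_pow, ← hd]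
  exact kToA_τ k k' ι f (pullback.fst f (Spec.map (CommRingCat.ofHom ι)) x') (pullback.snd f (Spec.map (CommRingCat.ofHom ι)) x') hsq d

end PerPoint

section Assembly

variable (k k' : Type u) [Field k] [Field k'] (ι : k →+* k') (p : ℕ) [Fact p.Prime] [CharP k p]

theorem tr_eq_of_isClosedEmbedding {X : Scheme.{u}} (f : X ⟶ Spec (CommRingCat.of k))
    [LocallyOfFiniteType f]
    (hce : Topology.IsClosedEmbedding (pullback.fst f (Spec.map (CommRingCat.ofHom ι))))
    (x' : ↥(pullback f (Spec.map (CommRingCat.ofHom ι)))) :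
    tr (pullback.snd f (Spec.map (CommRingCat.ofHom ι))) x' =
      tr f (pullback.fst f (Spec.map (CommRingCat.ofHom ι)) x') := by
  have h1 := Groth.Agent.Lib.Helper4.PropDim1.dim_closure_of_field k'
    (pullback.snd f (Spec.map (CommRingCat.ofHom ι))) x'
  have h2 := Groth.Agent.Lib.Helper4.PropDim1.dim_closure_of_field k f
    (pullback.fst f (Spec.map (CommRingCat.ofHom ι)) x')
  have hset : (pullback.fst f (Spec.map (CommRingCat.ofHom ι))) '' closure {x'} =
      closure {pullback.fst f (Spec.map (CommRingCat.ofHom ι)) x'} := by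
    rw [← hce.closure_image_eq, Set.image_singleton]
  let e : ↥(closure ({x'} : Set ↥(pullback f (Spec.map (CommRingCat.ofHom ι))))) ≃ₜ
      ↥(closure ({pullback.fst f (Spec.map (CommRingCat.ofHom ι)) x'} : Set X)) :=
    (hce.isEmbedding.homeomorphImage (closure {x'})).trans (Homeomorph.setCongr hset)
  have h3 := IsHomeomorph.topologicalKrullDim_eq e e.isHomeomorph
  rw [h1, h2] at h3
  exact_mod_cast h3

theorem main_general (hι : ∀ c : k', ∃ (n : ℕ) (d : k), ι d = c ^ p ^ n)
    (X : Scheme.{u}) (f : X ⟶ Spec (CommRingCat.of k)) [LocallyOfFiniteType f] [QuasiCompact f]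
    (δ : X → ℤ) (hδ : Cyc.DeltaCompat f δ (fun _ => 0))
    (δ' : ↥(pullback f (Spec.map (CommRingCat.ofHom ι))) → ℤ)
    (hδ' : Cyc.DeltaCompat (pullback.snd f (Spec.map (CommRingCat.ofHom ι))) δ' (fun _ => 0))
    (r : ℤ) (β : AlgebraicCycle (pullback f (Spec.map (CommRingCat.ofHom ι))) ℤ)
    (hβ : β ∈ Cyc.Zk _ δ' r) :
    ∃ (n : ℕ) (α : AlgebraicCycle X ℤ), α ∈ Cyc.Zk X δ r ∧
      (p : ℤ) ^ n • ⇑β =
        Cyc.pullFun (pullback.fst f (Spec.map (CommRingCat.ofHom ι))) δ' δ 0 ⇑α := by
  classical
  letI algkk' : Algebra k k' := ι.toAlgebra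
  haveI hpi : IsPurelyInseparable k k' := (isPurelyInseparable_iff_pow_mem k p).mpr (fun c => by
    obtain ⟨n, d, hd⟩ := hι c
    exact ⟨n, d, hd⟩)
  haveI hui : UniversallyInjective (Spec.map (CommRingCat.ofHom ι)) :=
    Groth.Agent.Helper7.ChowPI.universallyInjective_Spec_of_purelyInseparable k k'
  haveI hint : IsIntegralHom (Spec.map (CommRingCat.ofHom ι)) := by
    rw [IsIntegralHom.SpecMap_iff]
    exact algebraMap_isIntegral_iff.mpr inferInstance
  haveI hui' : UniversallyInjective (pullback.fst f (Spec.map (CommRingCat.ofHom ι))) :=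
    MorphismProperty.pullback_fst (P := @UniversallyInjective) f _ hui
  haveI hint' : IsIntegralHom (pullback.fst f (Spec.map (CommRingCat.ofHom ι))) :=
    MorphismProperty.pullback_fst (P := @IsIntegralHom) f _ hint
  have hinj : Function.Injective (pullback.fst f (Spec.map (CommRingCat.ofHom ι))) :=
    (pullback.fst f (Spec.map (CommRingCat.ofHom ι))).injective
  have hce : Topology.IsClosedEmbedding (pullback.fst f (Spec.map (CommRingCat.ofHom ι))) :=
    Topology.IsClosedEmbedding.of_continuous_injective_isClosedMap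
      (pullback.fst f (Spec.map (CommRingCat.ofHom ι))).continuous hinj
      (pullback.fst f (Spec.map (CommRingCat.ofHom ι))).isClosedMap
  -- the dimension functions agree
  have hC : ∀ x', δ' x' = δ (pullback.fst f (Spec.map (CommRingCat.ofHom ι)) x') := by
    intro x'
    have h1 := delta_eq_of_deltaCompat (pullback.snd f (Spec.map (CommRingCat.ofHom ι))) δ'
      (fun _ => 0) hδ' x'
    have h2 := delta_eq_of_deltaCompat f δ (fun _ => 0) hδ
      (pullback.fst f (Spec.map (CommRingCat.ofHom ι)) x')
    rw [h1, h2, tr_eq_of_isClosedEmbedding k k' ι f hce x']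
  -- the multiplicities are powers of the characteristic
  have hP := perPoint k k' ι p hι f hinj
  choose j hj using hP
  -- finiteness of the support
  haveI : CompactSpace ↥(pullback f (Spec.map (CommRingCat.ofHom ι))) :=
    QuasiCompact.compactSpace_of_compactSpace (pullback.snd f (Spec.map (CommRingCat.ofHom ι)))
  have hfinβ : (Function.support β).Finite := by
    have := β.locallyFiniteSupport.finite_inter_support_of_isCompact isCompact_univ
    rwa [Set.univ_inter] at this
  let n : ℕ := hfinβ.toFinset.sup j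
  let a : X → ℤ := Function.extend (pullback.fst f (Spec.map (CommRingCat.ofHom ι)))
    (fun x' => (p : ℤ) ^ (n - j x') * β x') 0
  have ha : ∀ x', a (pullback.fst f (Spec.map (CommRingCat.ofHom ι)) x') =
      (p : ℤ) ^ (n - j x') * β x' := fun x' => hinj.extend_apply _ _ x'
  have hasupp : Function.support a ⊆
      (pullback.fst f (Spec.map (CommRingCat.ofHom ι))) '' Function.support β := by
    intro x hx
    rw [Function.mem_support] at hx
    by_cases hex : ∃ x', pullback.fst f (Spec.map (CommRingCat.ofHom ι)) x' = x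
    · obtain ⟨x', rfl⟩ := hex
      refine ⟨x', ?_, rfl⟩
      rw [Function.mem_support]
      intro h0
      apply hx
      rw [ha, h0, mul_zero]
    · exfalso
      apply hx
      exact Function.extend_apply' _ _ _ hex
  have hafin : (Function.support a).Finite := (hfinβ.image _).subset hasupp
  let α : AlgebraicCycle X ℤ :=
    { toFun := a
      supportWithinDomain' := Set.subset_univ _
      supportLocallyFiniteWithinDomain' := fun z _ =>
        ⟨Set.univ, Filter.univ_mem, hafin.subset Set.inter_subset_right⟩ }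
  have hαa : ∀ x, α x = a x := fun x => rfl
  refine ⟨n, α, ?_, ?_⟩
  · intro x hx
    rw [hαa]
    by_cases hex : ∃ x', pullback.fst f (Spec.map (CommRingCat.ofHom ι)) x' = x
    · obtain ⟨x', rfl⟩ := hex
      rw [ha, hβ x' (by rw [hC x']; exact hx), mul_zero]
    · exact Function.extend_apply' _ _ _ hex
  · funext x'
    rw [Pi.smul_apply, smul_eq_mul]
    unfold Cyc.pullFun
    rw [if_pos (by rw [hC x', add_zero]), hαa, ha, hj x', ENat.toNat_natCast]
    by_cases hb : β x' = 0
    · rw [hb, mul_zero, mul_zero, zero_mul]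
    · have hmem : x' ∈ hfinβ.toFinset := by
        rw [Set.Finite.mem_toFinset, Function.mem_support]
        exact hb
      have hle : j x' ≤ n := Finset.le_sup hmem
      rw [Nat.cast_pow, mul_assoc, mul_comm (β x'), ← mul_assoc, ← pow_add,
        Nat.sub_add_cancel hle]

end Assembly

section Final

theorem S1919_main (k : Type u) [Field k] (p : ℕ) [Fact p.Prime] [CharP k p] (X : Scheme.{u})
    (f : X ⟶ Spec (CommRingCat.of k)) [LocallyOfFiniteType f] [QuasiCompact f] (δ : X → ℤ)
    (hδ : Cyc.DeltaCompat f δ (fun _ => 0))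
    (δ' : ↥(pullback f (Spec.map (CommRingCat.ofHom (PerfectClosure.of k p)))) → ℤ)
    (hδ' : Cyc.DeltaCompat
      (pullback.snd f (Spec.map (CommRingCat.ofHom (PerfectClosure.of k p)))) δ' (fun _ => 0))
    (r : ℤ)
    (β : AlgebraicCycle (pullback f (Spec.map (CommRingCat.ofHom (PerfectClosure.of k p)))) ℤ)
    (hβ : β ∈ Cyc.Zk _ δ' r) :
    ∃ (n : ℕ) (α : AlgebraicCycle X ℤ), α ∈ Cyc.Zk X δ r ∧
      (p : ℤ) ^ n • ⇑β =
        Cyc.pullFun (pullback.fst f (Spec.map (CommRingCat.ofHom (PerfectClosure.of k p))))
          δ' δ 0 ⇑α :=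
  main_general k (PerfectClosure k p) (PerfectClosure.of k p) p
    (fun c => IsPRadical.pow_mem (PerfectClosure.of k p) p c) X f δ hδ δ' hδ' r β hβ

end Final

end Groth.Agent.Helper7.PerfBC
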